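import Groth.Agent.Lib.Snapper.AvoidAll
import Groth.Agent.Lib.Jets.ZeroIdeal
import Groth.Agent.Lib.HodgeIndex.IdealMul
import Groth.Agent.Lib.Ample.Twisting
import Groth.Agent.Lib.IdealModSec.Basic

/-!
# Invertible modules as differences of effective Cartier divisors avoiding finitely many points
-/

set_option autoImplicit false
set_option linter.all false
set_option backward.isDefEq.respectTransparency false

universe u

open CategoryTheory CategoryTheory.Limits AlgebraicGeometry TopologicalSpace Opposite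

noncomputable section

namespace GrothLib.DivDiff10

open GrothLib.Ample (Cocycle res res_res)
open GrothLib.InvExt (mres IsGen)
open GrothLib.IdealModSec (val val_injective val_mres val_smul exists_val_eq)

variable {X : Scheme.{u}}

/-- The divisor of a section whose locus contains the weakly associated points. -/
theorem exists_effCartier (c : Cocycle X) {m : ℕ} (v : c.sect m ⊤)
    (h : ∀ x, Curv2.IsWeakAssPoint (Coh.structureModule X) x → x ∈ c.locus v) :
    ∃ I : X.IdealSheafData, _root_.BlowUp.IsEffCartierIdeal I ∧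
      Disjoint (I.support : Set X) (c.locus v : Set X) ∧
      Nonempty (ClSub.idealMod I ≅ (NegTwist.inv c).twist m) := by
  let I := PicF2.zeroScheme (c.twist m) (c.hom v)
  let f : ∀ (i : c.ι) {W : X.Opens}, W ≤ c.D i → Γ(X, W) := fun i {W} hW => res (le_inf le_top hW) (v.1 i)
  have hspan : ∀ (i : c.ι) (U : X.affineOpens) (hU : U.1 ≤ c.D i), I.ideal U = Ideal.span {f i hU} := by
    intro i U hU
    refine Jets.zeroScheme_ideal_gen (c.isInvertible_twist m) _ U (c.isGen_base m i hU) ?_
    refine (c.hom_app_apply v U.1 (1 : Γ(X, U.1))).trans ?_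
    show (1 : Γ(X, U.1)) • (c.sectRes le_top v : c.sect m U.1) = (f i hU • c.base m i hU : c.sect m U.1)
    rw [one_smul]
    refine c.sect_ext_of_le hU ?_
    rw [Cocycle.sectRes_apply, Cocycle.smul_apply, Cocycle.base_self, mul_one, res_res]
  have hnz : ∀ (i : c.ι) (U : X.affineOpens) (hU : U.1 ≤ c.D i), f i hU ∈ nonZeroDivisors Γ(X, U.1) := by
    intro i U hU
    rw [mem_nonZeroDivisors_iff_right]
    intro r hr
    refine WeakAss.eq_zero_of_germ (F := Coh.structureModule X) (W := U.1) r fun x hx hw => ?_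
    have hu : IsUnit (X.presheaf.germ U.1 x hx (f i hU)) := by
      rw [← Scheme.mem_basicOpen, Scheme.basicOpen_res]
      exact ⟨hx, (c.mem_locus_iff v (hU hx)).1 (h x hw)⟩
    refine hu.smul_eq_zero.1 ?_
    rw [← WeakAss.germ_smul (F := Coh.structureModule X) hx,
      show f i hU • (show Γ(Coh.structureModule X, U.1) from r) = 0 from (mul_comm (f i hU) r).trans hr]
    exact map_zero _
  refine ⟨I, fun x => ?_, ?_, ?_⟩
  · obtain ⟨i, hi⟩ := c.exists_mem x
    obtain ⟨U, hxU, hUD⟩ := BlowUp.exists_affine_mem_le hi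
    exact ⟨U, hxU, _, hnz i U hUD, hspan i U hUD⟩
  · rw [Set.disjoint_left]
    intro x hxI hx
    obtain ⟨i, hi⟩ := c.exists_mem x
    obtain ⟨U, hxU, hUD⟩ := BlowUp.exists_affine_mem_le hi
    rw [SetLike.mem_coe, Scheme.IdealSheafData.mem_support_iff_of_mem hxU, hspan i U hUD,
      Scheme.mem_zeroLocus_iff] at hxI
    refine hxI _ (Ideal.mem_span_singleton_self _) ?_
    rw [Scheme.basicOpen_res]
    exact ⟨hxU, (c.mem_locus_iff v (hUD hxU)).1 hx⟩
  · have hk : ∀ i, ∃ k : Γ(ClSub.idealMod I, c.D i), val I (c.D i) k = f i le_rfl := by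
      intro i
      refine (IdealModSec.app_kernel (ClSub.toSubscheme I) (c.D i)).2 _ ?_
      refine Ample.meq_of_cover _ (fun T : {T : X.affineOpens // T.1 ≤ c.D i} => T.1.1) (fun T => T.2)
        (fun x hx => ?_) fun T => ?_
      · obtain ⟨T, hxT, hT⟩ := BlowUp.exists_affine_mem_le hx
        exact Opens.mem_iSup.mpr ⟨⟨T, hT⟩, hxT⟩
      · rw [← Ample.app_mres (ClSub.toSubscheme I) T.2]
        refine Eq.trans ?_ (map_zero _).symm
        have hmem : (InvExt.fres X T.2 (f i le_rfl) : Γ(X, T.1.1)) ∈ I.ideal T.1 := by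
          rw [hspan i T.1 T.2, show InvExt.fres X T.2 (f i le_rfl) = f i T.2 from res_res _ _ _]
          exact Ideal.mem_span_singleton_self _
        rw [← I.ker_subschemeι_app T.1] at hmem
        exact hmem
    choose k hk using hk
    have hfam : (NegTwist.inv c).IsFamily m (M := ClSub.idealMod I) k := by
      intro i j W hi hj
      refine val_injective I W ?_
      rw [val_smul, val_mres, val_mres, hk, hk, NegTwist.inv_G]
      show res hj (res _ (v.1 j)) = _ * res hi (res _ (v.1 i))
      rw [res_res, res_res]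
      exact c.sect_spec v j i _ _
    have hgen : ∀ i, IsGen (ClSub.idealMod I) (c.D i) (k i) := fun i =>
      IdealModSec.isGen_of_affine fun T hT => by
        have e : val I T.1 (mres _ hT (k i)) = f i hT := by
          rw [val_mres, hk]
          exact res_res _ _ _
        have hG : IsGen (ClSub.idealMod I) T.1 (mres _ hT (k i)) :=
          IdealModSec.isGen_of_cartierOn (e ▸ hnz i T hT) (by rw [e]; exact hspan i T hT)
        have hb := hG T.1 le_rfl
        rw [InvExt.mres_mres] at hb
        exact hb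
    haveI := (NegTwist.inv c).isIso_homOfFamily hfam hgen
    exact ⟨(asIso ((NegTwist.inv c).homOfFamily hfam)).symm⟩

theorem cls_inv (c : Cocycle X) : Cube.cls (NegTwist.inv c) = (Cube.cls c)⁻¹ := by
  refine eq_inv_of_mul_eq_one_left ?_
  rw [← Cube.cls_prod, Cube.cls_eq_one_iff]
  exact (Cube.triv_iff _).2 ((Cube.eqv_prod_inv c).map fun e => e ≪≫ (Cocycle.nonempty_structureModule_iso_triv (X := X)).some.symm)

theorem cls_idealMod (c : Cocycle X) {m : ℕ} {I : X.IdealSheafData} (hI : PicF.IsInvertible (ClSub.idealMod I))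
    (e : ClSub.idealMod I ≅ (NegTwist.inv c).twist m) : Cube.clsMod hI = (Cube.cls c)⁻¹ ^ m := by
  let d := NegTwist.inv c
  have hd := d.isInvertible_twist 1
  obtain ⟨t⟩ := d.nonempty_tensorPow_iso (Iso.refl (d.twist 1)) m
  rw [← cls_inv, ← Cube.clsMod_eq hd (Iso.refl _), ← Cube.clsMod_tensorPow hd m, Cube.clsMod_eq_iff]
  exact ⟨e ≪≫ t.symm⟩

/-- An invertible module on a Noetherian scheme with an ample one is a difference of effective Cartier
divisors avoiding a given finite set. -/
theorem exists_difference [IsNoetherian X] {L : X.Modules} (hL : CohB1.IsAmple L)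
    {N : X.Modules} (hN : PicF.IsInvertible N) {E : Set X} (hE : E.Finite) :
    ∃ D D' : X.IdealSheafData, _root_.BlowUp.IsEffCartierIdeal D ∧ _root_.BlowUp.IsEffCartierIdeal D' ∧
      Disjoint E (D.support : Set X) ∧ Disjoint E (D'.support : Set X) ∧
      Nonempty (CohB1.tensorMod N (ClSub.idealMod D) ≅ ClSub.idealMod D') := by
  obtain ⟨c, ⟨eL⟩⟩ := Ample.exists_cocycle hL.1
  obtain ⟨d, ⟨eN⟩⟩ := Ample.exists_cocycle hN
  have hc := ((c.isAmple_iff eL).1 hL).2
  have hT := hE.union (NegTwist.finite_weakAss (X := X) (Euler.isCoh_of_isInvertible Euler.isInvertible_structure))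
  obtain ⟨n₀, hn₀⟩ := c.eventually_isAmple_prod (NegTwist.inv d) hc
  obtain ⟨m₀, hm₀⟩ := Snapper.exists_sect_all c hc hT
  let n := max n₀ m₀
  let p := (c.pow n).prod (NegTwist.inv d)
  have hp : p.IsAmp := ((p.isAmple_iff (Iso.refl _)).1 (hn₀ n (le_max_left _ _)).1).2
  obtain ⟨m, hm⟩ := Snapper.exists_sect_all p hp hT
  obtain ⟨a, ha⟩ := hm₀ n (le_max_right _ _)
  obtain ⟨b, hb⟩ := hm m le_rfl
  obtain ⟨b', hb'⟩ := hm (m + 1) (Nat.le_succ m)
  obtain ⟨A, hA, hAd, ⟨eA⟩⟩ := exists_effCartier c a fun x hx => ha x (Or.inr hx)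
  obtain ⟨B, hB, hBd, ⟨eB⟩⟩ := exists_effCartier p b fun x hx => hb x (Or.inr hx)
  obtain ⟨B', hB', hB'd, ⟨eB'⟩⟩ := exists_effCartier p b' fun x hx => hb' x (Or.inr hx)
  have iA := IdealModSec.isInvertible_of_isEffCartier hA
  have iB := IdealModSec.isInvertible_of_isEffCartier hB
  have iB' := IdealModSec.isInvertible_of_isEffCartier hB'
  obtain ⟨eAB⟩ := HodgeIndex.nonempty_idealMod_mul iA iB
  have hout : ∀ {I : X.IdealSheafData} {O : X.Opens}, Disjoint (I.support : Set X) (O : Set X) →
      (∀ x ∈ E, x ∈ O) → Disjoint E (I.support : Set X) := fun hd hO => hd.symm.mono_left hO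
  have iAB : PicF.IsInvertible (ClSub.idealMod (A * B)) :=
    let ⟨q, ⟨eq⟩⟩ := Ample.exists_cocycle (Ample.isInvertible_tensorMod iA iB)
    q.isInvertible_of_iso (eAB.symm ≪≫ eq)
  refine ⟨A * B, B', IdealModSec.isEffCartier_of_isInvertible iAB, hB', ?_,
    hout hB'd fun x hx => hb' x (Or.inl hx), ?_⟩
  · rw [Scheme.IdealSheafData.support_mul, Closeds.coe_sup]
    exact (hout hAd fun x hx => ha x (Or.inl hx)).union_right (hout hBd fun x hx => hb x (Or.inl hx))
  · rw [← Cube.clsMod_eq_iff (Ample.isInvertible_tensorMod hN iAB) iB', Cube.clsMod_tensorMod hN iAB,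
      HodgeIndex.cls_idealMod_mul iAB iA iB, cls_idealMod c iA eA, cls_idealMod p iB eB, cls_idealMod p iB' eB',
      Cube.clsMod_eq hN eN]
    have hcn : Cube.cls (c.pow n) = Cube.cls c ^ n := by
      obtain ⟨t⟩ := c.nonempty_pow_twist n 1
      obtain ⟨t'⟩ := c.nonempty_tensorPow_iso (Iso.refl (c.twist 1)) n
      have hc1 := c.isInvertible_twist 1
      rw [← Cube.clsMod_eq hc1 (Iso.refl _), ← Cube.clsMod_tensorPow hc1 n, eq_comm]
      exact Cube.clsMod_eq _ (t' ≪≫ eqToIso (by rw [mul_one]) ≪≫ t.symm)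
    have hpcls : Cube.cls p = Cube.cls c ^ n * (Cube.cls d)⁻¹ := by
      rw [Cube.cls_prod, hcn, cls_inv]
    rw [pow_succ, hpcls, mul_inv, inv_inv, inv_pow (Cube.cls c)]
    simp only [mul_assoc, mul_comm, mul_left_comm]

end GrothLib.DivDiff10
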